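import Groth.Agent.FibDepth.AssCons
import Groth.Agent.Unibranch.ComponentDim
import Groth.Agent.ConsEngine.SetProp

/-!
# Dimensions of the components of a constructible set in the fibres
-/

set_option autoImplicit false
set_option linter.style.haveILetI false
set_option backward.isDefEq.respectTransparency false

universe u

open CategoryTheory AlgebraicGeometry Topology TopologicalSpace

namespace Groth.Agent.FibDimSets

open Groth.Agent.FibDepth Groth.Agent.Unibranch

variable {X Y : Scheme.{u}} (f : X ⟶ Y) [LocallyOfFiniteType f]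

/-- The dimension of the closure of a point in its fibre. -/
noncomputable def fdim (w : X) : ℕ := (exists_dim_closure_eq f w).choose

theorem chainsLE_fdim (w : X) : ChainsLE f (closure {w}) (f w) (fdim f w) :=
  (exists_dim_closure_eq f w).choose_spec.1

theorem hasChain_fdim (w : X) : HasChain f (closure {w}) (f w) (fdim f w) :=
  (exists_dim_closure_eq f w).choose_spec.2.1

theorem fdim_eq_rdimIn {V : Y.Opens} {W : X.Opens} (hV : IsAffineOpen V) (hW : IsAffineOpen W)
    (e : W ≤ f ⁻¹ᵁ V) (w : X) (hw : w ∈ W) : fdim f w = rdimIn f hW e w hw := by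
  refine le_antisymm ((hasChain_fdim f w).le ?_) ?_
  · exact chainsLE_of_specializes f specializes_rfl hw (chainsLE_rdimIn hV hW e hw)
  · exact ((hasChain_rdimIn hV hW e hw).mono Set.inter_subset_right).le (chainsLE_fdim f w)

theorem fdim_lt {w w' : X} (h : w' ⤳ w) (hne : w' ≠ w) (hf : f w' = f w) : fdim f w < fdim f w' := by
  obtain ⟨c, hc, hc'⟩ := hasChain_fdim f w
  have hd : HasChain f (closure {w'}) (f w') (fdim f w + 1) := by
    refine ⟨Fin.cons w' c, fun i => ?_, fun i => ?_⟩
    · induction i using Fin.cases with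
      | zero => exact ⟨subset_closure rfl, rfl⟩
      | succ i =>
        rw [Fin.cons_succ]
        exact ⟨specializes_iff_mem_closure.1 (h.trans (specializes_iff_mem_closure.2 (hc i).1)), (hc i).2.trans hf.symm⟩
    · induction i using Fin.cases with
      | zero =>
        rw [Fin.castSucc_zero, Fin.cons_zero, Fin.cons_succ]
        have hwc : w ⤳ c 0 := specializes_iff_mem_closure.2 (hc 0).1
        refine ⟨h.trans hwc, fun e => hne ?_⟩
        exact (h.antisymm (e ▸ hwc)).eq
      | succ i =>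
        rw [Fin.cons_succ, ← Fin.succ_castSucc, Fin.cons_succ]
        exact hc' i
  have := hd.le (chainsLE_fdim f w')
  omega

theorem topologicalKrullDim_locallyClosed_eq {U K : Set X} (hU : IsOpen U) (hK : IsClosed K) {w : X}
    (hw : w ∈ U ∩ K) {α : Type*} [TopologicalSpace α] [QuasiSober α] {j : α → X} (hj : IsEmbedding j)
    (hr : Set.range j = ((U ∩ K) ∩ closure {w}) ∩ f ⁻¹' {f w}) :
    topologicalKrullDim α = (fdim f w : WithBot ℕ∞) := by
  refine le_antisymm ((Unibranch.topologicalKrullDim_le_iff f hj hr).2 ((chainsLE_fdim f w).mono Set.inter_subset_right)) ?_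
  obtain ⟨c, hc, hc'⟩ := (hasChain_fdim f w).of_specializes specializes_rfl (U := ⟨U, hU⟩) hw.1
  refine (Unibranch.natCast_le_topologicalKrullDim_iff f hj hr).2 ⟨c, fun i => ⟨⟨⟨(hc i).1.1, ?_⟩, (hc i).1.2⟩, (hc i).2⟩, hc'⟩
  exact closure_minimal (Set.singleton_subset_iff.2 hw.2) hK (hc i).1.2

/-- The points of the set all whose generisations in the set over the same point have dimension less than `b`. -/
def boundSet (Z : Set X) (b : ℕ) : Set X :=
  {x | x ∈ Z ∧ ∀ w ∈ Z, f w = f x → w ⤳ x → fdim f w < b}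

/-- A chart: bounded relative dimensions and the bound sets. -/
theorem chart [LocallyOfFinitePresentation f] {Z : Set X} (hZ : IsLocallyConstructible Z) (x : X) :
    ∃ (V : Y.Opens) (W : X.Opens) (hW : IsAffineOpen W) (n : ℕ) (σ : MvPolynomial (Fin n) Γ(Y, V) →+* Γ(X, W)),
      x ∈ W ∧ (∀ w ∈ W, fdim f w ≤ n) ∧ ∀ b : ℕ, ∃ T, IsConstructible T ∧
        ∀ (x' : X) (hx' : x' ∈ W), x' ∈ boundSet f Z b ↔ chartPrime hW σ x' hx' ∈ T := by
  obtain ⟨V, W, hV, hW, hxW, e, -⟩ := Unibranch.exists_chart_le f (U := ⊤) (x := x) trivial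
  letI : Algebra Γ(Y, V) Γ(X, W) := (f.appLE V W e).hom.toAlgebra
  haveI : Algebra.FinitePresentation Γ(Y, V) Γ(X, W) := f.finitePresentation_appLE hV hW e
  obtain ⟨n, π, hπ, hker⟩ := Algebra.FinitePresentation.out (R := Γ(Y, V)) (A := Γ(X, W))
  let A := Γ(Y, V)
  let P := MvPolynomial (Fin n) A
  let σ : P →+* Γ(X, W) := π.toRingHom
  have hσC : ∀ a, σ (MvPolynomial.C a) = (f.appLE V W e).hom a := fun a => π.commutes a
  let c : ∀ w, w ∈ W → PrimeSpectrum P := fun w hw => chartPrime hW σ w hw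
  have hr : ∀ w (hw : w ∈ W), fdim f w = Unibranch.rdim A (c w hw).asIdeal := fun w hw => by
    rw [fdim_eq_rdimIn f hV hW e w hw]
    exact (rdim_comap_of_surjective π hπ (hW.primeIdealOf ⟨w, hw⟩)).symm
  refine ⟨V, W, hW, n, σ, hxW, fun w hw => (hr w hw).trans_le (rdim_le_card _), fun b => ?_⟩
  let Z' : Set (PrimeSpectrum Γ(X, W)) := hW.fromSpec ⁻¹' Z
  have hZ' : IsConstructible Z' :=
    (ConsEngine.isLocallyConstructible_preimage hW.fromSpec hZ).isConstructible
  let T : Set (PrimeSpectrum P) := PrimeSpectrum.comap σ '' Z'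
  have hT : IsConstructible T :=
    PrimeSpectrum.isConstructible_comap_image (RingHom.FinitePresentation.of_surjective σ hπ hker) hZ'
  have hmem : ∀ w (hw : w ∈ W), c w hw ∈ T ↔ w ∈ Z := fun w hw => by
    refine Iff.trans (PrimeSpectrum.comap_injective_of_surjective σ hπ).mem_set_image ?_
    show hW.fromSpec (hW.primeIdealOf ⟨w, hw⟩) ∈ Z ↔ _
    rw [hW.fromSpec_primeIdealOf]
  have hunder : ∀ w (hw : w ∈ W) w' (hw' : w' ∈ W),
      (c w hw).asIdeal.under A = (c w' hw').asIdeal.under A ↔ f w = f w' := fun w hw w' hw' => by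
    rw [← fromSpec_under f hV hW e σ hσC w hw, ← fromSpec_under f hV hW e σ hσC w' hw']
    exact ⟨fun h => congrArg hV.fromSpec (PrimeSpectrum.ext h),
      fun h => congrArg PrimeSpectrum.asIdeal (hV.fromSpec.isOpenEmbedding.injective h)⟩
  refine ⟨T ∩ fibBound T b, hT.inter (isConstructible_fibBound hT b), fun x' hx' => ⟨fun hx => ?_, fun hx => ?_⟩⟩
  · refine ⟨(hmem x' hx').2 hx.1, fun P hP hle hu => ?_⟩
    obtain ⟨q, hq, rfl⟩ := hP
    have hwW : hW.fromSpec q ∈ W := hW.range_fromSpec.le ⟨q, rfl⟩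
    have hcw : c _ hwW = PrimeSpectrum.comap σ q := congrArg (PrimeSpectrum.comap σ)
      (hW.fromSpec.isOpenEmbedding.injective (by rw [hW.fromSpec_primeIdealOf]))
    rw [← hcw] at hle hu ⊢
    rw [← hr]
    exact hx.2 _ hq ((hunder _ hwW x' hx').1 hu) ((chartPrime_le_iff hW σ hπ _ _ hwW hx').1 hle)
  · refine ⟨(hmem x' hx').1 hx.1, fun w hw hf hwx => ?_⟩
    have hwW : w ∈ W := hwx.mem_open W.2 hx'
    rw [hr w hwW]
    exact hx.2 _ ((hmem w hwW).2 hw) ((chartPrime_le_iff hW σ hπ _ _ hwW hx').2 hwx)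
      ((hunder w hwW x' hx').2 hf)

theorem isLocallyConstructible_boundSet [LocallyOfFinitePresentation f] {Z : Set X}
    (hZ : IsLocallyConstructible Z) (b : ℕ) : IsLocallyConstructible (boundSet f Z b) := by
  refine isLocallyConstructible_of_charts (Y := Y) fun x => ?_
  obtain ⟨V, W, hW, n, σ, hxW, -, h⟩ := chart f hZ x
  obtain ⟨T, hT, hT'⟩ := h b
  exact ⟨V, W, hW, n, σ, T, hxW, hT, hT'⟩

theorem exists_bound [LocallyOfFinitePresentation f] [QuasiCompact f] {U : Y.Opens} (hU : IsAffineOpen U) :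
    ∃ N, ∀ w : X, f w ∈ U → fdim f w ≤ N := by
  choose V W hW n σ hxW hn hb using fun x : X => chart f (Z := ∅) IsConstructible.empty.isLocallyConstructible x
  obtain ⟨t, ht⟩ := (QuasiCompact.isCompact_preimage (f := f) U U.2 hU.isCompact).elim_finite_subcover
    (fun x => (W x : Set X)) (fun x => (W x).2) fun z _ => Set.mem_iUnion.2 ⟨z, hxW z⟩
  refine ⟨t.sup n, fun w hw => ?_⟩
  obtain ⟨x, hx, hwx⟩ := Set.mem_iUnion₂.1 (ht hw)
  exact (hn x w hwx).trans (Finset.le_sup hx)

end Groth.Agent.FibDimSets
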