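import Groth.Agent.FibDimSets.Basic

/-!
# The dimensions of the components of the fibres of a constructible set form a constructible function
-/

set_option autoImplicit false
set_option linter.style.haveILetI false

universe u

open CategoryTheory AlgebraicGeometry Topology TopologicalSpace

namespace Groth.Agent.FibDimSets

open Groth.Agent.Unibranch

variable {X S : Scheme.{u}} (f : X ⟶ S)

theorem componentDims_eq [LocallyOfFiniteType f] (Z : Set X) (s : S)
    (hZs : IsLocallyClosed (Subtype.val ⁻¹' Z : Set ↥(⇑f ⁻¹' {s}))) :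
    (fun T : Set ↥(Z ∩ ⇑f ⁻¹' {s}) => topologicalKrullDim ↥T) '' irreducibleComponents ↥(Z ∩ ⇑f ⁻¹' {s}) =
      {d | ∃ j : ℕ, d = (j : WithBot ℕ∞) ∧ s ∈ f '' (boundSet f Z (j + 1) \ boundSet f Z j)} := by
  obtain ⟨U', K', hU', hK', hUK⟩ := hZs
  obtain ⟨U, hU, rfl⟩ := isOpen_induced_iff.1 hU'
  obtain ⟨K, hK, rfl⟩ := isClosed_induced_iff.1 hK'
  have hF : Z ∩ ⇑f ⁻¹' {s} = (U ∩ K) ∩ ⇑f ⁻¹' {s} := by
    ext x
    exact ⟨fun ⟨hx, hs⟩ => ⟨(Set.ext_iff.1 hUK ⟨x, hs⟩).1 hx, hs⟩,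
      fun ⟨hx, hs⟩ => ⟨(Set.ext_iff.1 hUK ⟨x, hs⟩).2 hx, hs⟩⟩
  haveI := quasiSober_inter f (hU.isLocallyClosed.inter hK.isLocallyClosed) s
  haveI : QuasiSober ↥(Z ∩ ⇑f ⁻¹' {s}) := (Homeomorph.setCongr hF).isOpenEmbedding.quasiSober
  let α := ↥(Z ∩ ⇑f ⁻¹' {s})
  let Max (w : α) : Prop := ∀ w' : α, w' ⤳ w → w' = w
  have hdim : ∀ w : α, topologicalKrullDim ↥(closure ({w} : Set α)) = (fdim f w.1 : WithBot ℕ∞) := fun w => by
    haveI : QuasiSober ↥(closure ({w} : Set α)) := isClosed_closure.isClosedEmbedding_subtypeVal.quasiSober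
    have hw : w.1 ∈ U ∩ K := (hF.le w.2).1
    have hws : f w.1 = s := w.2.2
    refine topologicalKrullDim_locallyClosed_eq f hU hK hw
      (IsEmbedding.subtypeVal.comp (IsEmbedding.subtypeVal (p := (· ∈ closure ({w} : Set α))))) ?_
    rw [Set.range_comp, Subtype.range_coe, IsEmbedding.subtypeVal.closure_eq_preimage_closure_image,
      Set.image_singleton, Set.image_preimage_eq_inter_range, Subtype.range_coe, hws]
    ext z
    constructor
    · rintro ⟨h1, h2⟩
      exact ⟨⟨(hF.le h2).1, h1⟩, h2.2⟩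
    · rintro ⟨⟨h1, h2⟩, h3⟩
      exact ⟨h2, hF.ge ⟨h1, h3⟩⟩
  have hcomp : ∀ T : Set α, T ∈ irreducibleComponents α ↔ ∃ w, Max w ∧ closure {w} = T := fun T => by
    constructor
    · intro hT
      obtain ⟨w, hw⟩ := QuasiSober.sober hT.1 (isClosed_of_mem_irreducibleComponents _ hT)
      refine ⟨w, fun z hz => ?_, hw.def⟩
      have h1 : T ⊆ closure {z} := by
        rw [← hw.def]
        exact closure_minimal (Set.singleton_subset_iff.mpr hz.mem_closure) isClosed_closure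
      exact ((hw.specializes (hT.2 isIrreducible_singleton.closure h1 (subset_closure rfl))).antisymm hz).eq.symm
    · rintro ⟨w, hw, rfl⟩
      refine ⟨isIrreducible_singleton.closure, fun T hT hle => ?_⟩
      obtain ⟨z, hz⟩ := QuasiSober.sober hT.closure isClosed_closure
      have h1 : z = w := hw z (hz.specializes (subset_closure (hle (subset_closure rfl))))
      rw [← h1, hz.def]
      exact subset_closure
  ext d
  constructor
  · rintro ⟨T, hT, rfl⟩
    obtain ⟨w, hw, rfl⟩ := (hcomp T).1 hT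
    refine ⟨fdim f w.1, hdim w, w.1, ⟨⟨w.2.1, fun v hv hf hvw => ?_⟩, fun h => lt_irrefl _ (h.2 w.1 w.2.1 rfl specializes_rfl)⟩, w.2.2⟩
    have := hw ⟨v, hv, hf.trans w.2.2⟩ ((subtype_specializes_iff _ _).2 hvw)
    rw [← this]
    exact Nat.lt_succ_self _
  · rintro ⟨j, rfl, x, ⟨⟨hxZ, hx1⟩, hx2⟩, rfl⟩
    obtain ⟨w, hwZ, hwf, hwx, hwj⟩ : ∃ w ∈ Z, f w = f x ∧ w ⤳ x ∧ j ≤ fdim f w := by
      by_contra h
      push Not at h
      exact hx2 ⟨hxZ, h⟩
    have hj : fdim f w = j := by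
      have := hx1 w hwZ hwf hwx
      omega
    refine ⟨_, (hcomp _).2 ⟨⟨w, hwZ, hwf⟩, fun v hv => ?_, rfl⟩, (hdim ⟨w, hwZ, hwf⟩).trans (by rw [hj])⟩
    by_contra hne
    have hne' : v.1 ≠ w := fun e => hne (Subtype.ext e)
    have hlt := fdim_lt f ((subtype_specializes_iff _ _).1 hv) hne' ((show f v.1 = f x from v.2.2).trans hwf.symm)
    have hlt' : fdim f w < fdim f v.1 := hlt
    have : fdim f v.1 < j + 1 := hx1 v.1 v.2.1 v.2.2 (((subtype_specializes_iff _ _).1 hv).trans hwx)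
    omega

theorem isLocallyConstructible_componentDims [LocallyOfFinitePresentation f] [QuasiCompact f]
    {Z : Set X} (hZ : IsLocallyConstructible Z)
    (hZs : ∀ s : S, IsLocallyClosed (Subtype.val ⁻¹' Z : Set ↥(⇑f ⁻¹' {s}))) (Φ : Set (WithBot ℕ∞)) :
    IsLocallyConstructible {s : S |
      (fun T : Set ↥(Z ∩ ⇑f ⁻¹' {s}) => topologicalKrullDim ↥T) '' irreducibleComponents ↥(Z ∩ ⇑f ⁻¹' {s}) = Φ} := by
  classical
  let E : ℕ → Set S := fun j => f '' (boundSet f Z (j + 1) \ boundSet f Z j)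
  have hE : ∀ j, IsLocallyConstructible (E j) := fun j => by
    refine f.isLocallyConstructible_image ?_
    rw [Set.diff_eq]
    exact ConsEngine.locallyConstructible_inter (isLocallyConstructible_boundSet f hZ _)
      (ConsTop.isLocallyConstructible_compl (isLocallyConstructible_boundSet f hZ _))
  refine IsLocallyConstructible.of_isOpenCover (U := fun U : S.affineOpens => U.1) (iSup_affineOpens_eq_top S) fun U => ?_
  obtain ⟨N, hN⟩ := exists_bound f U.2
  have key : ∀ s ∈ U.1, ((fun T : Set ↥(Z ∩ ⇑f ⁻¹' {s}) => topologicalKrullDim ↥T) ''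
      irreducibleComponents ↥(Z ∩ ⇑f ⁻¹' {s}) = Φ ↔
      (∀ d ∈ Φ, ∃ j ≤ N, d = (j : WithBot ℕ∞)) ∧ ∀ j ≤ N, (s ∈ E j ↔ (j : WithBot ℕ∞) ∈ Φ)) := by
    intro s hs
    rw [componentDims_eq f Z s (hZs s)]
    have hb : ∀ j, s ∈ E j → j ≤ N := fun j ⟨x, ⟨⟨hxZ, h1⟩, h2⟩, hx⟩ => by
      by_contra hlt
      exact h2 ⟨hxZ, fun w _ hf _ => by have := hN w (by rw [hf, hx]; exact hs); omega⟩
    constructor
    · rintro rfl
      refine ⟨fun d ⟨j, hd, hj⟩ => ⟨j, hb j hj, hd⟩, fun j _ => ⟨fun h => ⟨j, rfl, h⟩, fun ⟨k, hk, h⟩ => ?_⟩⟩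
      obtain rfl : j = k := by exact_mod_cast hk
      exact h
    · rintro ⟨h1, h2⟩
      ext d
      refine ⟨fun ⟨j, hd, hj⟩ => hd ▸ (h2 j (hb j hj)).1 hj, fun hd => ?_⟩
      obtain ⟨j, hj, rfl⟩ := h1 d hd
      exact ⟨j, rfl, (h2 j hj).2 hd⟩
  let ι := U.1.ι
  have hι : ∀ s : U.1.toScheme, ι s ∈ U.1 := fun s => s.2
  show IsLocallyConstructible (ι ⁻¹' {s : S | _} : Set U.1.toScheme)
  by_cases hΦ : ∀ d ∈ Φ, ∃ j ≤ N, d = (j : WithBot ℕ∞)
  · have hA : ∀ k, IsLocallyConstructible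
        ({s | ∀ j < k, (ι s ∈ E j ↔ (j : WithBot ℕ∞) ∈ Φ)} : Set U.1.toScheme) := by
      intro k
      induction k with
      | zero =>
        convert (IsConstructible.univ (X := U.1.toScheme)).isLocallyConstructible using 1
        ext s
        simp
      | succ k ih =>
        have hEk := ConsEngine.isLocallyConstructible_preimage ι (hE k)
        by_cases hk : (k : WithBot ℕ∞) ∈ Φ
        · convert ConsEngine.locallyConstructible_inter ih hEk using 1
          ext s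
          simp only [Set.mem_inter_iff, Set.mem_ofPred_eq, Set.mem_preimage, Nat.forall_lt_succ_right, hk, iff_true]
        · convert ConsEngine.locallyConstructible_inter ih (ConsTop.isLocallyConstructible_compl hEk) using 1
          ext s
          simp only [Set.mem_inter_iff, Set.mem_ofPred_eq, Set.mem_preimage, Nat.forall_lt_succ_right, hk, iff_false, Set.mem_compl_iff]
    convert hA (N + 1) using 1
    ext s
    refine (key (ι s) (hι s)).trans ?_
    exact ⟨fun h j hj => h.2 j (Nat.lt_succ_iff.1 hj), fun h => ⟨hΦ, fun j hj => h j (Nat.lt_succ_iff.2 hj)⟩⟩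
  · convert (IsConstructible.empty (X := U.1.toScheme)).isLocallyConstructible using 1
    ext s
    refine iff_of_false (fun h => hΦ ((key (ι s) (hι s)).1 h).1) (Set.notMem_empty s)

end Groth.Agent.FibDimSets
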